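import Cfsg.Agent.Mas.X1

/-! An involution of `L₄(3)`. -/

set_option autoImplicit false
set_option linter.unusedSectionVars false

namespace CF.Mas

open Cfsg Subgroup Matrix
open scoped MatrixGroups

variable {F : Type} [Field F]

/-- square root of `-1` -/
def mu (F : Type) [Field F] : Matrix (Fin 4) (Fin 4) F := !![0, -1, 0, 0; 1, 0, 0, 0; 0, 0, 0, -1; 0, 0, 1, 0]

/-- unipotent elements commuting with it -/
def md (a : F × F) : Matrix (Fin 4) (Fin 4) F := !![1, 0, a.1, -a.2; 0, 1, a.2, a.1; 0, 0, 1, 0; 0, 0, 0, 1]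

theorem uu : mu F * mu F = -1 := by
  ext i j; fin_cases i <;> fin_cases j <;> simp [mu, Matrix.mul_apply, Fin.sum_univ_four]

theorem mdd (a b : F × F) : md (a + b) = md a * md b := by
  ext i j; fin_cases i <;> fin_cases j <;> simp [md, Matrix.mul_apply, Fin.sum_univ_four, add_comm]

theorem mdu (a : F × F) : md a * mu F = mu F * md a := by
  ext i j; fin_cases i <;> fin_cases j <;> simp [md, mu, Matrix.mul_apply, Fin.sum_univ_four]

theorem detd (a : F × F) : (md a).det = 1 := by simp [md, det_succ_row_zero, Fin.sum_univ_succ, Fin.succAbove]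

theorem detu (h3 : (3 : F) = 0) : (1 + mu F).det = 1 := by
  rw [show 1 + mu F = !![1, -1, 0, 0; 1, 1, 0, 0; 0, 0, 1, -1; 0, 0, 1, 1] by ext i j; fin_cases i <;> fin_cases j <;> simp [mu]]
  simp [det_succ_row_zero, Fin.sum_univ_succ, Fin.succAbove]; linear_combination h3

theorem l43 [Fintype F] (hF : Fintype.card F = 3) : ∃ (D : Subgroup PSL(4, F)) (t s : PSL(4, F)), IsElementaryAbelian 3 D ∧
    Nat.card D = 9 ∧ t ≠ 1 ∧ t * t = 1 ∧ D ≤ centralizer (zpowers t : Set _) ∧ s * s = t ∧ (∀ d ∈ D, d * s = s * d) ∧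
    ∀ g, g * t = t * g → g * s * g⁻¹ ∈ zpowers s := by
  have h3 : (3 : F) = 0 := by simpa [hF] using FiniteField.cast_card_eq_zero F
  let s : SL(4, F) := ⟨_, detu h3⟩
  have m3 : ∀ A : Matrix (Fin 4) (Fin 4) F, A + A + A = 0 := fun A => by ext i j; simp; linear_combination A i j * h3
  have ss : (s * s).1 = -mu F := by
    change (1 + mu F) * (1 + mu F) = _
    rw [← sub_eq_zero, ← m3 (mu F), mul_add, add_mul, add_mul, uu]; noncomm_ring
  let φ : Multiplicative (F × F) →* SL(4, F) := MonoidHom.mk' (fun a => ⟨_, detd a.toAdd⟩) fun a b => Subtype.ext (mdd _ _)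
  let π := QuotientGroup.mk' (center SL(4, F))
  have k1 : ∀ {g}, π g = 1 ↔ ∃ r : F, r ^ 4 = 1 ∧ scalar (Fin 4) r = g.1 :=
    (QuotientGroup.eq_one_iff _).trans Matrix.SpecialLinearGroup.mem_center_iff
  have i : Function.Injective (π.comp φ) := (injective_iff_map_eq_one _).2 fun a e => by
    obtain ⟨r, -, k⟩ := k1.1 e
    exact Prod.ext (congrFun₂ k 0 2).symm (congrFun₂ k 1 2).symm
  have c : ∀ a, φ a * s = s * φ a := fun a => Subtype.ext (by
    change md _ * (1 + mu F) = (1 + mu F) * md _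
    rw [mul_add, add_mul, mdu, mul_one, one_mul])
  have cD : ∀ d ∈ (π.comp φ).range, d * π s = π s * d := by rintro _ ⟨a, rfl⟩; simp only [MonoidHom.comp_apply, ← map_mul, c]
  refine ⟨(π.comp φ).range, π s * π s, π s, ea_range _ mul_comm fun a => ?_, ?_, fun e => ?_, ?_, fun d hd => ?_, rfl, cD, fun g e => ?_⟩
  · change 3 • a.toAdd = 0
    ext <;> simp [h3]
  · rw [← Nat.card_congr (MonoidHom.ofInjective i).toEquiv]; simp [hF]
  · obtain ⟨r, -, k⟩ := k1.1 e
    simpa [ss, mu] using congrFun₂ (k.trans ss) 0 1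
  · refine k1.2 ⟨-1, by ring, ?_⟩
    change _ = (s * s).1 * (s * s).1
    rw [ss, neg_mul_neg, uu, map_neg, map_one]
  · rw [BG.cent_zpowers, BG.mem_cent1, ← mul_assoc, cD d hd, mul_assoc, cD d hd, mul_assoc]
  obtain ⟨g, rfl⟩ := QuotientGroup.mk'_surjective _ g
  obtain ⟨r, -, k⟩ := k1.1 (show π (g * (s * s) * g⁻¹ * (s * s)⁻¹) = 1 by
    simp only [map_mul, map_inv]; rw [e, mul_inv_eq_one]; exact mul_inv_cancel_right _ _)
  have gg : g.1 * g⁻¹.1 = 1 := congrArg Subtype.val (mul_inv_cancel g)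
  have k2 : g.1 * mu F * g⁻¹.1 = r • mu F := by
    have : scalar (Fin 4) r * (s * s).1 = g.1 * (s * s).1 * g⁻¹.1 := by
      rw [k]; exact congrArg Subtype.val (inv_mul_cancel_right _ (s * s))
    rw [ss, mul_neg, mul_neg, neg_mul, neg_inj] at this
    rw [← this, smul_eq_diagonal_mul]; rfl
  have k3 : (g * s * g⁻¹).1 = 1 + r • mu F := by
    change g.1 * (1 + mu F) * g⁻¹.1 = _
    rw [mul_add, add_mul, mul_one, gg, k2]
  have k4 : r * r = 1 := by
    have : g.1 * mu F * g⁻¹.1 * (g.1 * mu F * g⁻¹.1) = -1 := by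
      rw [mul_assoc, ← mul_assoc g⁻¹.1, ← mul_assoc g⁻¹.1, mul_eq_one_comm.1 gg, one_mul, mul_assoc, ← mul_assoc (mu F), uu,
        neg_mul, one_mul, mul_neg, gg]
    rw [k2, smul_mul_smul_comm, uu] at this
    simpa using congrFun₂ this 0 0
  rw [← map_inv, ← map_mul, ← map_mul]
  obtain rfl | rfl := mul_self_eq_one_iff.1 k4
  · rw [show g * s * g⁻¹ = s from Subtype.ext (by rw [k3, one_smul])]; exact mem_zpowers _
  · rw [show g * s * g⁻¹ = s * s * s from Subtype.ext (by
      rw [k3]; change _ = (s * s).1 * (1 + mu F); rw [ss, mul_add, neg_mul (mu F), neg_mul, uu]; simp [add_comm]), map_mul, map_mul]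
    exact mul_mem (mul_mem (mem_zpowers _) (mem_zpowers _)) (mem_zpowers _)

end CF.Mas
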