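import Cfsg.Agent.XG.V

/-! Large extraspecial subgroups of width three and four with fixed point free elements of order three. -/

set_option autoImplicit false
set_option linter.unusedSectionVars false

namespace CF.MasW

open Cfsg Subgroup CF.Loc CF.Even CF.LX CF.Geom CF.XG QuadraticMap

variable {G V : Type*} [Group G] [Finite G] [AddCommGroup V] [Module (ZMod 2) V] {q : QuadraticForm (ZMod 2) V}
  {Q : G → Subgroup G} {D : Set G} {n : ℕ} {a b d g t x y z : G} {p : G → V} {ρ : G → V →ₗ[ZMod 2] V} {P : Subgroup G}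

/-- coefficients -/
abbrev Z4 := ZMod 2 × ZMod 2 × ZMod 2 × ZMod 2
/-- the first transformation -/
def f1 (m w t : Z4) : Z4 := (t.1 + (w.2.1 + t.2.2.1 * m.2.2.1 + t.2.2.2 * m.2.2.2),
  t.2.1 + (w.1 + t.2.2.1 * m.1 + t.2.2.2 * m.2.1), t.2.2.1, t.2.2.2)
/-- the second transformation -/
def f2 (m w t : Z4) : Z4 := (t.1, t.2.1, t.2.2.1 + (w.2.2.2 + t.1 * m.2.1 + t.2.1 * m.2.2.2),
  t.2.2.2 + (w.2.2.1 + t.1 * m.1 + t.2.1 * m.2.2.1))
theorem f34 : ∀ m : Z4, (∀ w, f1 m w (f2 m w (f1 m w (f2 m w (f1 m w (f2 m w (f1 m w (f2 m w 0))))))) = 0) ∨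
    ∀ w, f1 m w (f2 m w (f1 m w (f2 m w (f1 m w (f2 m w 0))))) = 0 := by decide +kernel

theorem alt {a c a' c' : V} (qc : q c = 0) (qc' : q c' = 0) (ca : polar q c a = 0) (ca' : polar q c' a' = 0) :
    (∀ v, sg q a c (sg q a' c' (sg q a c (sg q a' c' (sg q a c (sg q a' c' (sg q a c (sg q a' c' v))))))) = v) ∨
      ∀ v, sg q a c (sg q a' c' (sg q a c (sg q a' c' (sg q a c (sg q a' c' v))))) = v := by
  let T (v : V) (t : Z4) : V := v + t.1 • a + t.2.1 • c + t.2.2.1 • a' + t.2.2.2 • c'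
  let m : Z4 := (polar q a' a, polar q c' a, polar q a' c, polar q c' c)
  let w (v : V) : Z4 := (polar q v a, polar q v c, polar q v a', polar q v c')
  have e0 : ∀ v, T v 0 = v := fun v => by simp [T]
  have e1 : ∀ v t, sg q a c (T v t) = T v (f1 m (w v) t) := fun v t => by
    simp only [sg_sing qc, T, f1, m, w, polar_add_left, polar_smul_left, smul_eq_mul, pol_self, ca, polar_comm q a c]
    module
  have e2 : ∀ v t, sg q a' c' (T v t) = T v (f2 m (w v) t) := fun v t => by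
    simp only [sg_sing qc', T, f2, m, w, polar_add_left, polar_smul_left, smul_eq_mul, pol_self, ca', polar_comm q a' c',
      polar_comm q a a', polar_comm q a c', polar_comm q c a', polar_comm q c c']
    module
  refine (f34 m).imp (fun k v => ?_) fun k v => ?_ <;> nth_rw 1 [← e0 v] <;> simp only [e1, e2, k] <;> exact e0 v

theorem half (A : Subgroup G) (f : G → ZMod 2) (h : ∀ x ∈ A, ∀ y ∈ A, f (x * y) = f x + f y) :
    ∃ B ≤ A, Nat.card A ≤ Nat.card B * 2 ∧ ∀ b ∈ B, f b = 0 := by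
  let φ : A →* Multiplicative (ZMod 2) := MonoidHom.mk' (fun x => .ofAdd (f x)) fun x y => congrArg _ (h x x.2 y y.2)
  refine ⟨φ.ker.map A.subtype, map_subtype_le _, ?_, by rintro _ ⟨x, k, rfl⟩; exact k⟩
  rw [card_eq_mul φ, card_map_of_injective A.subtype_injective]
  exact Nat.mul_le_mul_left _ ((card_le_card_group _).trans (by simp))

theorem two_le {A B : Subgroup G} (h : A ≤ B) (n : ¬ B ≤ A) : Nat.card A * 2 ≤ Nat.card B := by
  rw [← card_inf_mul_relIndex A B, inf_eq_left.2 h]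
  refine Nat.mul_le_mul_left _ ?_
  have := relIndex_eq_one.not.2 n
  have : A.relIndex B ≠ 0 := (A.subgroupOf B).index_ne_zero_of_finite
  omega

/-- elements of order three -/
theorem pw3 (o : IsPGroup 3 (zpowers x)) (n : x ≠ 1) : ∃ k, (x ^ k) ^ 3 = 1 ∧ x ^ k ≠ 1 := by
  haveI : Fact (Nat.Prime 3) := ⟨Nat.prime_three⟩
  obtain ⟨m, e⟩ := o.exists_card_eq
  rw [Nat.card_zpowers] at e
  obtain rfl | m := m
  · exact (n (orderOf_eq_one_iff.1 e)).elim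
  exact ⟨3 ^ m, by rw [← pow_mul, ← pow_succ, ← e, pow_orderOf_eq_one], pow_ne_one_of_lt_orderOf (by positivity)
    (e ▸ Nat.pow_lt_pow_right (by decide) m.lt_succ_self)⟩

theorem fix3 (L : LM P z p q ρ) (xz : x * z = z * x) (o : ∃ k, x ^ 3 ^ k = 1) (ht : t ∈ P) (e : ρ x (p t) = p t) :
    x * t = t * x := by
  obtain ⟨k, o⟩ := o
  have c : Commute (x ^ 2) t := by
    rcases (L.fix_iff xz ht).1 e with l | l
    · exact (show Commute x t from conj_eq_iff.1 l).pow_left 2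
    · refine conj_eq_iff.1 ?_
      rw [pow_two, show x * x * t * (x * x)⁻¹ = x * (x * t * x⁻¹) * x⁻¹ by group, l, conj_mul_conj, l, conj_eq_iff.2 xz,
        ← mul_assoc, L.lq.zz, one_mul]
  obtain ⟨j, hj⟩ : Odd (3 ^ k) := Odd.pow (by decide)
  have := c.pow_left (j + 1)
  rwa [← pow_mul, show 2 * (j + 1) = 3 ^ k + 1 by omega, pow_succ, o, one_mul] at this

variable (S : Sys Q D n) (j : Adj Q D z a)
include S j

theorem w3 (c : Nat.card 𝐂₁(z) = 3317760) (n3 : n = 3)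
    (f2 : ∀ x, x ^ 3 = 1 → x ≠ 1 → x * z = z * x → ∀ w ∈ Q z, w * w = 1 → x * w = w * x → w = 1 ∨ w = z) : False := by
  haveI : Fact (Nat.Prime 3) := ⟨Nat.prime_three⟩
  subst n3
  obtain ⟨p, q, ρ, L⟩ := exists_lm (S.lq j.zD) (r := 6) (S.card j.zD)
  obtain ⟨R, cR⟩ := Sylow.exists_subgroup_card_pow_prime (G := 𝐂₁(z)) 3 (n := 4) (c ▸ by decide)
  have := Nat.card_le_card_of_injective (fun x : R => ρ x.1.1 (p a)) fun x y e => by
    by_contra k
    have m := mem_c1.1 (y⁻¹ * x).1.2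
    have o := IsPGroup.of_card cR
    have o' : IsPGroup 3 (zpowers (y⁻¹ * x).1.1) := by
      refine ((o.map (𝐂₁(z)).subtype).to_le (zpowers_le.2 ⟨_, (y⁻¹ * x).2, rfl⟩))
    obtain ⟨i, i1, i2⟩ := pw3 o' fun l => k (inv_mul_eq_one.1 (Subtype.ext (Subtype.ext l))).symm
    have c : Commute (y⁻¹ * x).1.1 a := fix3 L m ((o (y⁻¹ * x)).imp fun _ l => congrArg (·.1.1) l) j.aQ (by
      have e' : ρ x.1.1 (p a) = ρ y.1.1 (p a) := e
      exact (L.ρ_mul (comm_inv (mem_c1.1 y.1.2)) (mem_c1.1 x.1.2) _).trans (e' ▸ L.ρ_inv (mem_c1.1 y.1.2) _))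
    exact (f2 _ i1 i2 (Commute.pow_left m i).eq a j.aQ (S.zz j.aD) (c.pow_left i).eq).elim (S.ne1 j.aD) j.ne
  rw [cR] at this
  simp at this

theorem cardV : Nat.card (V4 z a) = 4 := (S.pair j).klein.card_four

theorem cardE (r8 : ∀ y, y ^ 3 = 1 → y ≠ 1 → ∀ A : Subgroup G, (∀ a ∈ A, a * a = 1) → (∀ a ∈ A, y * a = a * y) →
    Nat.card A ≤ 4) : Nat.card ↥(Q z ⊓ Q a) ≤ 16 := by
  haveI : Fact (Nat.Prime 3) := ⟨Nat.prime_three⟩
  have h := S.pair j
  obtain ⟨y, o⟩ := exists_prime_orderOf_dvd_card' (G := ↥(Q z ⊔ Q a)) 3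
    ((by decide : 3 ∣ 6).trans (h.relIndex_R ▸ relIndex_dvd_card _ _))
  have ny := h.X_norm_E y.2
  let f : ↥(Q z ⊓ Q a) →* G := MonoidHom.mk' (fun e => y.1 * e * y.1⁻¹ * e.1⁻¹) fun e e' => by
    have m := mul_mem (conj_mem_of_mem_normalizer ny e'.2) (inv_mem e'.2)
    rw [coe_mul, conj_mul_conj, mul_inv_rev, mul_assoc (y.1 * e * y.1⁻¹) e.1⁻¹,
      S.E_comm j (inv_mem e.2.1) (inv_mem e.2.2) m.1 m.2]
    group
  have c1 : Nat.card f.range ≤ 4 := cardV S j ▸ card_le_of_le (by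
    rintro _ ⟨e, rfl⟩; exact h.comm_X_E (commutator_mem_commutator y.2 e.2))
  have c2 := r8 y (congrArg Subtype.val (o ▸ pow_orderOf_eq_one y)) (fun e => by
    rw [show y = 1 from Subtype.ext e, orderOf_one] at o; cases o) (f.ker.map (Q z ⊓ Q a).subtype)
      (by rintro _ ⟨e, -, rfl⟩; exact h.E_sq e.2) (by rintro _ ⟨e, k, rfl⟩; exact conj_eq_iff.1 (mul_inv_eq_one.1 k))
  rw [card_map_of_injective (subtype_injective _)] at c2
  exact (card_eq_mul f).trans_le (Nat.mul_le_mul c2 c1)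

theorem cut (W : Subgroup G) (l : W ≤ Q z) :
    ∃ t ∈ Q z, t ∈ 𝐂(V4 z a) ∧ (W ≤ V4 z a ∨ Nat.card ↥(W ⊓ 𝐂₁(t)) * 2 ≤ Nat.card W) := by
  by_cases k : W ≤ V4 z a
  · exact ⟨1, one_mem _, one_mem _, .inl k⟩
  obtain ⟨e, m, n⟩ := SetLike.not_le_iff_exists.1 k
  obtain ⟨t, ht, t1, t2⟩ := (S.lq j.zD).exists_move (S.pair j).zV ((S.pair j).V_le.trans inf_le_left) (l m) n
  exact ⟨t, ht, t1, .inr (two_le inf_le_left fun k => S.ne1 j.zD (by
    rwa [conj_eq_iff.2 (mem_c1.1 (k m).2).symm, right_eq_mul] at t2))⟩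

theorem cut2 (c : Nat.card ↥(Q z ⊓ Q a) ≤ 16) : ∃ s ∈ Q z, ∃ t ∈ Q z, s * a = a * s ∧ t * a = a * t ∧
    Q z ⊓ Q a ⊓ 𝐂₁(s) ⊓ 𝐂₁(t) ≤ V4 z a := by
  obtain ⟨s, hs, s1, s2⟩ := cut S j (Q z ⊓ Q a) inf_le_left
  obtain ⟨t, ht, t1, t2⟩ := cut S j (Q z ⊓ Q a ⊓ 𝐂₁(s)) (inf_le_left.trans inf_le_left)
  refine ⟨s, hs, t, ht, (s1 a (S.pair j).tV).symm, (t1 a (S.pair j).tV).symm, ?_⟩
  rcases s2 with s2 | s2
  · exact (inf_le_left.trans inf_le_left).trans s2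
  rcases t2 with t2 | t2
  · exact inf_le_left.trans t2
  exact (eq_of_le_of_card_ge (le_inf (le_inf (S.pair j).V_le fun v m => mem_c1.2 (s1 v m)) fun v m => mem_c1.2 (t1 v m))
    (by rw [cardV S j]; omega)).ge

variable (L : LM (Q z) z p q ρ)
include L

theorem big (c : Nat.card ↥(Q z ⊓ Q a) ≤ 16) : ∃ A ≤ Q a ⊓ 𝐂₁(z), Nat.card (Q a) ≤ Nat.card A * 4 ∧
    ∀ b ∈ A, ∀ t ∈ Q z, t * a = a * t → ρ b (p t) = p t ∨ ρ b (p t) = p t + p a := by
  obtain ⟨s, hs, t, ht, sa, ta, k⟩ := cut2 S j c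
  have pa : ∀ {t}, t ∈ Q z → t * a = a * t → polar q (p t) (p a) = 0 := fun ht ta => (L.cm ht j.aQ).1 ta
  obtain ⟨A, lA, cA, hA⟩ := half (Q a ⊓ 𝐂₁(z)) (fun b => polar q (p s) (ρ b (p t) + p t)) fun b hb c hc => by
    have bz := mem_c1.1 hb.2
    have cz := mem_c1.1 hc.2
    have e := S.commE L j hc.1 cz ht ta
    have := S.ρ_E L j hb.1 bz e.1 e.2
    rw [L.comm ht cz, map_add, ← L.ρ_mul bz cz] at this
    simp only [polar_add_right]
    rcases this with l | l <;> rw [add_eq_iff.1 l] <;> simp only [polar_add_right, pa hs sa] <;> ring_nf <;>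
      simp [show (2 : ZMod 2) = 0 from rfl]
  have := (S.lq j.aD).two_mul_card_c1 (S.symm j).aQ (S.ne1 j.zD) j.ne.symm
  refine ⟨A, lA, by omega, fun b hb => ?_⟩
  have bQ := (lA hb).1
  have bz := mem_c1.1 (lA hb).2
  have sym : ∀ u v, polar q u (ρ b v + v) = polar q v (ρ b u + u) := fun u v => by
    rw [polar_add_right, polar_add_right, ← L.adj bz (S.sqQ j bQ), polar_comm q v u, polar_comm q v]
  have self : ∀ {t}, t ∈ Q z → t * a = a * t → polar q (p t) (ρ b (p t) + p t) = 0 := fun {t} ht ta => by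
    have e := S.commE L j bQ bz ht ta
    have := (L.sq e.1).1 (S.E_sq j e.1 e.2)
    rw [L.comm ht bz, quad_add, L.ρ_q bz, CharTwo.add_self_eq_zero, zero_add] at this
    rw [polar_add_right, pol_self, add_zero, polar_comm, this]
  have cl : ∀ {u}, u ∈ Q z → u * a = a * u → polar q (p s) (ρ b (p u) + p u) = 0 → polar q (p t) (ρ b (p u) + p u) = 0 →
      ρ b (p u) + p u = 0 ∨ ρ b (p u) + p u = p a := fun {u} hu ua e1 e2 => by
    have e := S.commE L j bQ bz hu ua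
    rw [← L.comm hu bz] at e1 e2 ⊢
    rcases (S.mem_V j).1 (k ⟨⟨e, mem_c1.2 ((L.cm hs e.1).2 e1).symm⟩, mem_c1.2 ((L.cm ht e.1).2 e2).symm⟩) with l | l | l | l <;>
      rw [l]
    exacts [.inl L.one, .inl L.pz, .inr rfl, .inr (L.zmul j.aQ)]
  have c1 := cl hs sa (self hs sa) ((sym _ _).trans (hA b hb))
  have c2 := cl ht ta (hA b hb) (self ht ta)
  intro u hu ua
  refine (cl hu ua ?_ ?_).imp add_eq_zero'.1 fun e => by rw [add_eq_iff.1 e, add_comm]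
  · rw [sym]; rcases c1 with e | e <;> rw [e]
    exacts [polar_zero_right _ _, pa hu ua]
  · rw [sym]; rcases c2 with e | e <;> rw [e]
    exacts [polar_zero_right _ _, pa hu ua]

theorem root (c : Nat.card ↥(Q z ⊓ Q a) ≤ 16) (n4 : n = 4) :
    ∃ b ∈ Q a, b * z = z * b ∧ b ∉ Q z ∧ ∃ c, q c = 0 ∧ Rel q ρ (p a) b c := by
  obtain ⟨A, lA, cA, hA⟩ := big S j L c
  rw [S.card j.aD, n4] at cA
  obtain ⟨x, hx, e⟩ := S.exists_x j
  have az : ∀ {b}, b ∈ A → b * z = z * b := fun m => mem_c1.1 (lA m).2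
  have R : ∀ {b}, b ∈ A → Rel q ρ (p a) b (p (x * b * x⁻¹ * b⁻¹)) := fun {b} m =>
    S.rel_of L j hx e (az m) (S.zc j.aD (lA m).1) (hA b m)
  by_contra! k
  have k' : ∀ b ∈ A, b ∉ Q z → ∀ c, Rel q ρ (p a) b c → q c = 1 := fun b m n c r => z2_ne fun l => k b (lA m).1 (az m) n c l r
  obtain ⟨b, mb, nb⟩ := SetLike.not_le_iff_exists.1 (show ¬ A ≤ Q z from fun l => by
    have := card_le_of_le (le_inf l (lA.trans inf_le_left)); omega)
  obtain ⟨B, lB, cB, hB⟩ := half A (fun y => polar q (p (x * y * x⁻¹ * y⁻¹)) (p (x * b * x⁻¹ * b⁻¹))) fun y my w mw => by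
    rcases L.rel_uniq (S.p_ne L j) (L.rel_mul (S.p_sing L j) (az my) (az mw) (R my) (R mw)) (R (mul_mem my mw)) with l | l <;>
      simp only [l, polar_add_left]
    rw [polar_comm q (p a), (R mb).1, add_zero]
  have : (B : Set G) ⊆ (Q z ⊓ Q a : Subgroup G) ∪ (b⁻¹ * ·) '' (Q z ⊓ Q a : Subgroup G) := fun y my => by
    have m := lB my
    by_cases y1 : y ∈ Q z
    · exact .inl ⟨y1, (lA m).1⟩
    refine .inr ⟨b * y, ⟨by_contra fun y2 => ?_, (lA (mul_mem mb m)).1⟩, inv_mul_cancel_left _ _⟩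
    have := k' _ (mul_mem mb m) y2 _ (L.rel_mul (S.p_sing L j) (az mb) (az m) (R mb) (R m))
    rw [quad_add, k' b mb nb _ (R mb), k' y m y1 _ (R m), polar_comm, hB y my] at this
    exact absurd this (by decide)
  have := (Set.ncard_le_ncard this).trans ((Set.ncard_union_le _ _).trans (Nat.add_le_add_left (Set.ncard_image_le) _))
  simp only [← Nat.card_coe_set_eq, SetLike.coe_sort_coe] at this
  omega

theorem w4 (c : Nat.card ↥(Q z ⊓ Q a) ≤ 16) (n4 : n = 4)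
    (f2 : ∀ x, x ^ 3 = 1 → x ≠ 1 → x * z = z * x → ∀ w ∈ Q z, w * w = 1 → x * w = w * x → w = 1 ∨ w = z) : False := by
  obtain ⟨b, hb, bz, nb, c, qc, r⟩ := root S j L c n4
  refine nb (S.baer j.zD bz (S.sqQ j hb) fun h hz => ?_)
  have r' := L.rel_cj hz bz r
  have b' := comm_mul (comm_mul hz bz) (comm_inv hz)
  have c2 := comm_mul bz b'
  have e : ∀ v, ρ (b * (h * b * h⁻¹)) v = sg q (p a) c (sg q (ρ h (p a)) (ρ h c) v) := fun v => by
    rw [L.ρ_mul bz b', r'.2, r.2]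
  generalize b * (h * b * h⁻¹) = y at c2 e
  have s : ∀ k v, ρ (y ^ (k + 1)) v = ρ (y ^ k) (ρ y v) := fun k v => by
    rw [pow_succ, L.ρ_mul (Commute.pow_left c2 k).eq c2]
  rcases alt qc ((L.ρ_q hz c).trans qc) r.1 r'.1 with k | k
  · exact L.mem_of (Commute.pow_left c2 4).eq fun v => by simp only [s, pow_zero, L.ρ_Q (one_mem _), e, k]
  have y3 : y ^ 3 ∈ Q z := L.mem_of (Commute.pow_left c2 3).eq fun v => by simp only [s, pow_zero, L.ρ_Q (one_mem _), e, k]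
  have x3 : (y ^ 4) ^ 3 = 1 := by
    rw [← pow_mul, show 4 * 3 = 3 * 2 * 2 from rfl, pow_mul, pow_mul, pow_two, pow_two (y ^ 3)]
    rcases L.lq.sq _ y3 with l | l <;> rw [l]
    exacts [mul_one 1, L.lq.zz]
  by_cases x1 : y ^ 4 = 1
  · exact x1 ▸ one_mem _
  have ns : ∀ w ∈ Q z, p w ≠ 0 → polar q (p w) (p a) = 0 → polar q (p w) c = 0 → polar q (p w) (ρ h (p a)) = 0 →
      polar q (p w) (ρ h c) = 0 → q (p w) = 1 := fun w hw w0 e1 e2 e3 e4 => z2_ne fun l => w0 ((L.ker hw).2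
    (f2 _ x3 x1 (Commute.pow_left c2 4).eq w hw ((L.sq hw).2 l) (fix3 L (Commute.pow_left c2 4).eq ⟨1, x3⟩ hw (by
      rw [s, L.ρ_Q y3, e, sg_fix e3 e4, sg_fix e1 e2]))))
  have cQ := S.card j.zD
  rw [n4] at cQ
  obtain ⟨u, hu, u1, uz, lu⟩ := L.exists_perp le_rfl ![p a, c, ρ h (p a), ρ h c] (by rw [cQ]; decide)
  have u0 : p u ≠ 0 := fun l => ((L.ker hu).1 l).elim u1 uz
  obtain ⟨v, hv⟩ := L.exists_one u0
  obtain ⟨w, hw, w1, wz, lw⟩ := L.exists_perp le_rfl ![p a, c, ρ h (p a), ρ h c, p u, v] (by rw [cQ]; decide)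
  have w0 : p w ≠ 0 := fun l => ((L.ker hw).1 l).elim w1 wz
  have := ns _ (mul_mem hw hu)
  simp only [L.mul hw hu, polar_add_left, quad_add] at this
  have l4 : polar q (p w) (p u) = 0 := lw 4
  have l5 : polar q (p w) v = 0 := lw 5
  rw [ns u hu u0 (lu 0) (lu 1) (lu 2) (lu 3), ns w hw w0 (lw 0) (lw 1) (lw 2) (lw 3), l4] at this
  exact absurd (this (fun l => z01 (by rw [← l5, XG.add_eq_zero'.1 l, polar_comm, hv])) (XG.add_eq_zero'.2 ((lw 0).trans (lu 0).symm))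
    (XG.add_eq_zero'.2 ((lw 1).trans (lu 1).symm)) (XG.add_eq_zero'.2 ((lw 2).trans (lu 2).symm))
    (XG.add_eq_zero'.2 ((lw 3).trans (lu 3).symm))) (by decide)

omit S j L in
/-- widths three and four, the involution not weakly closed -/
theorem _root_.CF.Mas.wide [IsSimpleGroup G] (l : LQ P z) {n : ℕ} (hn : n = 3 ∨ n = 4) (c : Nat.card P = 2 ^ (2 * n + 1))
    (O2 : 𝐎[2](𝐂₁(z)) ≤ P) (g1 : g * z * g⁻¹ ∈ P) (g2 : g * z * g⁻¹ ≠ z)
    (inv : ∀ A : Subgroup G, A ≤ P → (∀ a ∈ A, a * a = 1) → 𝐂₁(z) ≤ 𝐍(A) → A ≤ zpowers z)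
    (f2 : ∀ x, x ^ 3 = 1 → x ≠ 1 → x * z = z * x → ∀ w ∈ P, w * w = 1 → x * w = w * x → w = 1 ∨ w = z)
    (r8 : ∀ y, y ^ 3 = 1 → y ≠ 1 → ∀ A : Subgroup G, (∀ a ∈ A, a * a = 1) → (∀ a ∈ A, y * a = a * y) → Nat.card A ≤ 4) :
    False := by
  obtain ⟨S, rfl⟩ := exists_sys l c (by omega) O2
  have j : Adj (fun d : G => 𝐎[2](𝐂₁(d))) {d | IsConj z d} z _ := ⟨IsConj.refl z, isConj_iff.2 ⟨g, rfl⟩, g1, g2⟩
  rcases hn with rfl | rfl
  swap
  · obtain ⟨p, q, ρ, L⟩ := exists_lm (S.lq j.zD) (S.card j.zD)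
    have c16 := cardE S j r8
    exact w4 S j L c16 rfl f2
  refine w3 S j (S.card3 j (no_two l) fun A h1 h2 h3 => by_contra fun k => ?_) rfl f2
  push Not at k
  obtain ⟨n1, n2⟩ := k
  have e := fam_self h3
  have I : Inv (fun d : G => 𝐎[2](𝐂₁(d))) {d | IsConj z d} (fam z A) := ⟨fam_fam z A, fun k => by
    obtain ⟨g, rfl⟩ := isConj_iff.1 k; exact fam_fam z A g z z (e.ge h1), fun k => by
    obtain ⟨g, rfl⟩ := isConj_iff.1 k
    rw [← (fam_fam z A).cj, e, ← S.fam.cj]; exact cj_mono g h2⟩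
  obtain ⟨B, T⟩ := S.exists_TI I (z := z) (by
    by_contra! k
    exact n1 (le_antisymm (fun x hx => l.mem_z.2 (or_iff_not_imp_left.2 (k x (e.ge hx)))) (zpowers_le.2 h1)))
    (by by_contra! k; exact n2 (le_antisymm h2 fun x hx => e.le (k x hx))) j
  have := card_le_of_le (inv (B z) (T.le j.zD) (fun _ => S.A_sq T j.zD) fun _ k => T.fam.norm (mem_c1.1 k))
  rw [S.card_A T j.zD, l.card_z] at this
  exact absurd this (by decide)

end CF.MasW
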