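import Cfsg.Agent.Classical.Law
import Cfsg.Agent.Comp.MatG
import Cfsg.Agent.Comp.J2.Main
import Cfsg.Agent.Comp.Mat
import Cfsg.Agent.Leech.Co23
import Cfsg.Agent.FusB.Dq4
import Cfsg.Agent.S2135
import Cfsg.Agent.S2136
import Cfsg.Agent.S0822
import Cfsg.Agent.BG.B7

/-! Facts about the known groups. -/

set_option autoImplicit false
set_option linter.unusedSectionVars false

namespace CF.Mas

open Cfsg Subgroup Matrix
open scoped MatrixGroups

variable {G H K E : Type*} [Group G] [Group H] [Group K] [Group E] {n : ℕ}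

/-- an elementary abelian `3`-group of order `n` centralizes an involution -/
def Pr (n : ℕ) (G : Type*) [Group G] : Prop := ∃ (D : Subgroup G) (t : G), IsElementaryAbelian 3 D ∧ Nat.card D = n ∧ t ≠ 1 ∧
  t * t = 1 ∧ D ≤ centralizer (zpowers t : Set G)

theorem ea_range (φ : E →* G) (c : ∀ a b : E, a * b = b * a) (e : ∀ a : E, a ^ 3 = 1) : IsElementaryAbelian 3 φ.range :=
  ⟨⟨⟨by rintro ⟨_, a, rfl⟩ ⟨_, b, rfl⟩; exact Subtype.ext (by simp [← map_mul, c a b])⟩⟩, by
    rintro _ ⟨a, rfl⟩; rw [← map_pow, e, map_one]⟩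

theorem Pr.mk' (φ : E →* G) (i : Function.Injective φ) (c : ∀ a b : E, a * b = b * a) (e : ∀ a : E, a ^ 3 = 1) {t : G}
    (t1 : t ≠ 1) (t2 : t * t = 1) (k : ∀ a, φ a * t = t * φ a) : Pr (Nat.card E) G :=
  ⟨φ.range, t, ea_range φ c e, (Nat.card_congr (φ.ofInjective i).toEquiv).symm, t1, t2, by
    rintro _ ⟨a, rfl⟩
    rw [← BG.cent_zpowers t |>.symm]
    exact BG.mem_cent1.2 (k a)⟩

theorem Pr.inj (φ : K →* G) (i : Function.Injective φ) (h : Pr n K) : Pr n G := by
  obtain ⟨D, t, e, rfl, t1, t2, c⟩ := h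
  exact Pr.mk' (φ.comp D.subtype) (i.comp D.subtype_injective) (fun a b => e.1.1.1 a b) (fun a => Subtype.ext (e.2 a a.2))
    (fun k => t1 (i (k.trans φ.map_one.symm))) (by rw [← map_mul, t2, map_one]) fun a => by
      simp [← map_mul, (c a.2 t (mem_zpowers t))]

theorem Pr.of (e : G ≃* K) (h : Pr n K) : Pr n G := h.inj e.symm.toMonoidHom e.symm.injective

variable {F : Type} [Field F] [Fintype F]

theorem pr_su5 (hF : Fintype.card F = 4) : Pr 27 (SU 5 F 2) := by
  classical
  have c3 : Nat.card Fˣ = 3 := by rw [Nat.card_units, Nat.card_eq_fintype_card, hF]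
  have u3 : ∀ a : Fˣ, a ^ 3 = 1 := fun a => c3 ▸ pow_card_eq_one'
  have u3' : ∀ a : Fˣ, (a : F) ^ 3 = 1 := fun a => by rw [← Units.val_pow_eq_pow_val, u3, Units.val_one]
  have two : (2 : F) = 0 := by
    have := FiniteField.cast_card_eq_zero F
    rw [hF] at this
    exact pow_eq_zero_iff two_ne_zero |>.1 (by linear_combination (exp := 1) this)
  let d : Fˣ × Fˣ × Fˣ → Fin 5 → Fˣ := fun a => ![a.1 * a.2.1 * a.2.2, a.1 * a.2.1 * a.2.2, a.1, a.2.1, a.2.2]
  let φ : Fˣ × Fˣ × Fˣ →* SU 5 F 2 := MonoidHom.mk' (fun a => ⟨⟨diagonal fun i => (d a i : F), by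
    rw [det_diagonal, ← u3' (a.1 * a.2.1 * a.2.2)]; simp [d, Fin.prod_univ_five]; ring⟩, fun u v => Finset.sum_congr rfl fun i _ => by
      change (diagonal _ *ᵥ u) i * (diagonal _ *ᵥ v) i ^ 2 = _
      rw [mulVec_diagonal, mulVec_diagonal]
      linear_combination u i * v i ^ 2 * u3' (d a i)⟩) fun a b => Subtype.ext (Subtype.ext (by
        change diagonal _ = diagonal _ * diagonal _
        rw [diagonal_mul_diagonal]
        congr 1; funext i; fin_cases i <;> simp [d] <;> ring))
  let t : SU 5 F 2 := ⟨⟨(Equiv.swap 0 1).permMatrix F, by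
    rw [det_permutation, Equiv.Perm.sign_swap (by decide)]; simp; linear_combination -two⟩, fun u v => by
      have : ∀ x : Fin 5 → F, Equiv.Perm.permMatrix F (Equiv.swap 0 1) *ᵥ x = x ∘ Equiv.swap 0 1 := fun x => permMatrix_mulVec _
      change ∑ i, (Equiv.Perm.permMatrix F _ *ᵥ u) i * (Equiv.Perm.permMatrix F _ *ᵥ v) i ^ 2 = _
      rw [this, this]
      exact Equiv.sum_comp (Equiv.swap 0 1) fun i => u i * v i ^ 2⟩
  have := Pr.mk' φ (fun a b e => ?_) (fun a b => mul_comm a b) (fun a => by ext <;> simp [u3']) (t := t) (fun e => ?_) ?_ fun a => ?_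
  · rwa [Nat.card_prod, Nat.card_prod, c3] at this
  · have k := fun i => congrArg (fun g : SU 5 F 2 => g.1.1 i i) e
    have k2 := k 2; have k3 := k 3; have k4 := k 4
    simp [φ, d] at k2 k3 k4
    exact Prod.ext (Units.ext k2) (Prod.ext (Units.ext k3) (Units.ext k4))
  · simpa [t] using congrArg (fun g : SU 5 F 2 => g.1.1 0 0) e
  · refine Subtype.ext (Subtype.ext ?_)
    change Equiv.Perm.permMatrix F _ * Equiv.Perm.permMatrix F _ = 1
    rw [← permMatrix_mul]; simp
  · refine Subtype.ext (Subtype.ext ?_)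
    change diagonal _ * Equiv.Perm.permMatrix F _ = Equiv.Perm.permMatrix F _ * diagonal _
    ext i j
    rw [diagonal_mul, mul_diagonal]
    by_cases e : Equiv.swap 0 1 i = j
    · rw [← e, Equiv.apply_swap_eq_self (v := d a) (i := 0) (j := 1) rfl, mul_comm]
    · simp [e]

theorem pr_psu (hF : Fintype.card F = 4) {m : ℕ} (hm : 5 ≤ m) : Pr 27 (PSU m F 2) := by
  obtain ⟨k, rfl⟩ := Nat.exists_eq_add_of_le hm
  let ψ : SU 5 F 2 →* SU (5 + k) F 2 := ((Classical.blkSL F finSumFinEquiv).comp (SU 5 F 2).subtype).codRestrict _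
    Classical.blkSL_mem_SU
  have i : Function.Injective ψ := fun _ _ e => Subtype.ext (Classical.blkSL_injective _ (congrArg Subtype.val e))
  obtain ⟨σ, hσ, h2, h3⟩ := Geom.exists_conj (q := 2) hF
  have c := Geom.card_center_su (q := 2) hF hσ (Geom.isHerm_hermSesq h2 h3) (Geom.hermSesq_nondegenerate σ) (by simp)
    (Geom.suToUG_injective 5 hσ) (Geom.suToUG_range 5 hσ)
  rw [Module.finrank_fin_fun, show Nat.gcd 5 (2 + 1) = 1 from rfl, card_eq_one] at c
  refine (pr_su5 hF).inj ((QuotientGroup.mk' _).comp ψ) ((injective_iff_map_eq_one _).2 fun a e => mem_bot.1 (c ▸ ?_))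
  exact mem_center_iff.2 fun b => i (by
    rw [map_mul, map_mul]; exact mem_center_iff.1 ((QuotientGroup.eq_one_iff _).1 e) _)

open BG in
theorem lift [Finite H] [Finite K] (π : H →* K) (s : Function.Surjective π) (k : IsPGroup 2 π.ker) (φ : E →* K)
    (i : Function.Injective φ) (e : IsPGroup 3 E) : ∃ ψ : E →* H, Function.Injective ψ := by
  obtain ⟨S, h⟩ := exists_syl 3 (φ.range.comap π)
  have h1 := h.map π
  rw [map_comap_eq_self_of_surjective s] at h1
  have h2 : S.map π = φ.range := Subgroup.eq_of_le_of_card_ge (H := S.map π) h1.le (Nat.le_of_dvd Nat.card_pos (h1.card_dvd le_rfl (by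
    obtain ⟨m, c⟩ := (e.of_equiv (φ.ofInjective i)).exists_card_eq
    exact piGrp_of_card Nat.prime_three c)))
  have h3 : Function.Injective (π.comp S.subtype) := (injective_iff_map_eq_one _).2 fun a c => Subtype.ext (eq_one_of_mem_bot
    ((piGrp_of_isPGroup Nat.prime_two k).inf_eq_bot (h.pi.of_single_ne (by decide))) ⟨c, a.2⟩)
  have h4 : φ.range = (π.comp S.subtype).range := by rw [MonoidHom.range_comp, range_subtype, h2]
  exact ⟨S.subtype.comp ((φ.ofInjective i).trans ((MulEquiv.subgroupCongr h4).trans (MonoidHom.ofInjective h3).symm)).toMonoidHom,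
    S.subtype_injective.comp (MulEquiv.injective _)⟩

/-- powers of an element of order three -/
def g3 (a : ZMod 3) : Matrix (Fin 2) (Fin 2) (ZMod 2) := if a = 0 then 1 else if a = 1 then !![0, 1; 1, 1] else !![1, 1; 1, 0]

theorem pr_co2 : Pr 27 Spor.Co2 := by
  obtain ⟨t, o, -, c, ⟨e⟩⟩ := Cfsg.Agent.S2136.result
  let M (v : Fin 3 → ZMod 3) := fromBlocks (diagonal fun i => g3 (v i) 0 0) (diagonal fun i => g3 (v i) 0 1)
    (diagonal fun i => g3 (v i) 1 0) (diagonal fun i => g3 (v i) 1 1)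
  let φ : Multiplicative (Fin 3 → ZMod 3) →* symplecticGroup (Fin 3) (ZMod 2) := MonoidHom.mk' (fun v => ⟨M v.toAdd, by
    rw [SymplecticGroup.mem_iff]
    simp only [M, J, fromBlocks_transpose, fromBlocks_multiply, diagonal_transpose, diagonal_neg,
      diagonal_mul_diagonal, diagonal_add, ← diagonal_one, ← diagonal_zero]
    congr 2 <;> funext i <;> generalize v.toAdd i = a <;> revert a <;> decide⟩) fun v w => Subtype.ext (by
      change M (v.toAdd + w.toAdd) = M _ * M _
      simp only [M, fromBlocks_multiply, diagonal_mul_diagonal, diagonal_add, Pi.add_apply]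
      congr 2 <;> funext i <;> generalize v.toAdd i = a, w.toAdd i = b <;> revert a b <;> decide)
  have t3 : ∀ v : Multiplicative (Fin 3 → ZMod 3), v ^ 3 = 1 := fun v => funext fun i => by
    change 3 • v.toAdd i = 0
    generalize v.toAdd i = a; revert a; decide
  have : Finite (centralizer ({t} : Set Spor.Co2)) := Nat.finite_of_card_ne_zero (by
    rw [card_eq_card_quotient_mul_card_subgroup (pCore 2 _), c, Nat.card_congr e.toEquiv]
    exact mul_ne_zero Nat.card_pos.ne' (by decide))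
  obtain ⟨ψ, i⟩ := lift (e.toMonoidHom.comp (QuotientGroup.mk' _)) (e.surjective.comp (QuotientGroup.mk'_surjective _)) (by
    rw [← MonoidHom.comap_ker, (MonoidHom.ker_eq_bot_iff _).2 e.injective, MonoidHom.comap_bot, QuotientGroup.ker_mk']
    exact .of_card c) φ ((injective_iff_map_eq_one _).2 fun v e => funext fun i => by
      have a := congrArg (fun g : symplecticGroup (Fin 3) (ZMod 2) => g.1 (.inl i) (.inr i)) e
      change v.toAdd i = 0
      simp [φ, M] at a
      generalize v.toAdd i = b at *; revert b; decide) fun v => ⟨1, t3 v⟩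
  simpa using Pr.mk' ((Subgroup.subtype _).comp ψ) (Subtype.val_injective.comp i) mul_comm t3 (fun e => by simp [e] at o)
    (by rw [← pow_two, ← o, pow_orderOf_eq_one]) fun a => mem_centralizer_singleton_iff.1 (ψ a).2

theorem n81_u33 (hF : Fintype.card F = 9) : ¬ 81 ∣ Nat.card (PSU 3 F 3) := by
  have := Comp.card_PSU_mul (d := 3) (q := 3) hF (by decide)
  rw [show Nat.gcd 3 (3 + 1) = 1 from rfl, show 3 ^ (3 * (3 - 1) / 2) * ∏ i ∈ Finset.range 3,
    (if Even i then 3 ^ (i + 1) + 1 else 3 ^ (i + 1) - 1) = 24192 by decide +kernel] at this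
  omega

theorem n81_m12 : ¬ 81 ∣ Nat.card Spor.M12 := by rw [Comp.Mat.card_M12]; decide
theorem n81_j2 : ¬ 81 ∣ Nat.card Spor.J2 := by rw [Comp.J2.card]; decide
theorem n81_hs : ¬ 81 ∣ Nat.card Spor.HS := by rw [← Nat.card_congr Leech.HSEquiv.toEquiv, Leech.card_HS]; decide

theorem j3 (h : Spor.IsoJ3 G) {t : G} (o : orderOf t = 2) : ¬ 9 ∣ Nat.card (centralizer ({t} : Set G)) := by
  obtain ⟨F, _, _, ω, c, w, ⟨e⟩⟩ := h
  obtain ⟨k, s, o', Q, _, -, q, -, -, ⟨f⟩⟩ := Cfsg.Agent.S2135.result c ω w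
  obtain ⟨g, rfl⟩ := isConj_iff.1 (k _ _ (e.orderOf_eq t ▸ o) o')
  rw [← BG.card_map e.injective (f := e.toMonoidHom), ← BG.card_cj g, show BG.cj g _ = centralizer {g * e t * g⁻¹} by
    rw [← BG.cj_cent1, ← top_inf_eq (centralizer {t}), BG.map_inf_cent1 e.injective, ← MonoidHom.range_eq_map,
      MonoidHom.range_eq_top.2 e.surjective, top_inf_eq]; rfl,
    card_eq_card_quotient_mul_card_subgroup Q, q, Nat.card_congr f.toEquiv, nat_card_alternatingGroup]
  simp [Nat.factorial]

theorem u42 (hF : Fintype.card F = 4) : ∃ (K : Type) (_ : Field K) (_ : Fintype K), Fintype.card K = 3 ∧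
    Nonempty (PSU 4 F 2 ≃* PSp 2 K) :=
  have := Fact.mk Nat.prime_three
  ⟨ZMod 3, inferInstance, inferInstance, rfl, Cfsg.Agent.S0822.result hF rfl⟩

theorem rank_of_cyc [Finite G] {R : Subgroup G} [IsCyclic R] (h : R.index = 2) : PRankLE 2 2 G := by
  intro A _ e
  have := normal_of_index_eq_two h
  have : IsCyclic (R.subgroupOf A) := isCyclic_of_injective ((A.subtype.comp
    (R.subgroupOf A).subtype).codRestrict R fun x => x.2) fun x y k =>
      Subtype.ext (Subtype.ext (congrArg (Subtype.val : R → G) k))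
  have a := Nat.le_of_dvd two_pos (IsCyclic.exponent_eq_card (α := R.subgroupOf A) ▸
    Monoid.exponent_dvd_of_forall_pow_eq_one fun x => Subtype.ext (Subtype.ext (e _ x.1.2)))
  have b := Nat.le_of_dvd two_pos (h ▸ relIndex_dvd_index_of_normal R A)
  rw [← (R.subgroupOf A).card_mul_index]
  exact Nat.mul_le_mul a b

theorem l2 (h : (∃ n : ℕ, Fintype.card F = 2 ^ n + 1) ∨ ∃ n : ℕ, Fintype.card F + 1 = 2 ^ n) (d : 81 ∣ Nat.card PSL(2, F)) :
    PRankLE 2 2 PSL(2, F) := fun A a b => by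
  have h2 : (2 : F) ≠ 0 := fun e => by
    have c := FiniteField.even_card_of_char_two (CharP.ringChar_of_prime_eq_zero Nat.prime_two e)
    have := Fintype.one_lt_card (α := F)
    have := Classical.card_le_of_matrix (MulEquiv.refl PSL(2, F)) Subtype.val Subtype.val_injective (N := 2) (by simp) (by
      obtain ⟨_ | n, k⟩ | ⟨_ | n, k⟩ := h <;> omega)
    have := Nat.le_of_dvd Nat.card_pos d
    omega
  obtain ⟨S, hS⟩ := IsPGroup.exists_le_sylow (p := 2) (P := A) fun g => ⟨1, Subtype.ext (b _ g.2)⟩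
  obtain ⟨m, ⟨e⟩⟩ := FusB.sylow_PSL2 h2 S
  have := (zpowers (DihedralGroup.r (1 : ZMod (2 ^ (m + 1))))).card_mul_index
  rw [Nat.card_zpowers, DihedralGroup.orderOf_r_one, DihedralGroup.nat_card, mul_comm, mul_left_inj' (by positivity)] at this
  exact Invol.prankLE_of_le hS (Invol.prankLE_of_injective e.toMonoidHom e.injective
    (rank_of_cyc this)) ⊤ inferInstance (fun g _ => Subtype.ext (b _ g.2)) |>.trans' card_top.ge

end CF.Mas
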